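import Mathlib

/-!
# Maximal points of a scheme and quasi-compact morphisms

A maximal point (generic point of an irreducible component) lying in the closure of the image of a
quasi-compact morphism lies in the image.
-/

universe u

open AlgebraicGeometry CategoryTheory TopologicalSpace

namespace Groth.Agent.DomLib

lemma eq_of_specializes_maximal {S : Scheme.{u}} {η x : S}
    (hη : closure {η} ∈ irreducibleComponents (↑S : Type u)) (h : x ⤳ η) : x = η := by
  have h1 : closure {η} ⊆ closure ({x} : Set S) := specializes_iff_closure_subset.mp h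
  have h2 : closure ({x} : Set S) ⊆ closure {η} := hη.2 isIrreducible_singleton.closure h1
  exact h.antisymm (specializes_iff_closure_subset.mpr h2) |>.eq

lemma exists_maximal_specializes {S : Scheme.{u}} (s : S) :
    ∃ η : S, closure {η} ∈ irreducibleComponents (↑S : Type u) ∧ η ⤳ s := by
  obtain ⟨η, hη⟩ := QuasiSober.sober (α := S) isIrreducible_irreducibleComponent
    isClosed_irreducibleComponent (S := irreducibleComponent s)
  refine ⟨η, ?_, specializes_iff_mem_closure.mpr ?_⟩
  · rw [hη.def]; exact irreducibleComponent_mem_irreducibleComponents s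
  · rw [hη.def]; exact mem_irreducibleComponent

lemma mem_range_comap_of_isMin {R A : Type u} [CommRing R] [CommRing A] (φ : R →+* A)
    (p : PrimeSpectrum R) (hp : ∀ q : PrimeSpectrum R, q ≤ p → q = p)
    (h : p ∈ closure (Set.range (PrimeSpectrum.comap φ))) :
    p ∈ Set.range (PrimeSpectrum.comap φ) := by
  rw [PrimeSpectrum.closure_range_comap, PrimeSpectrum.mem_zeroLocus, SetLike.coe_subset_coe] at h
  have hm : p.asIdeal ∈ (Ideal.comap φ ⊥).minimalPrimes := by
    refine ⟨⟨p.isPrime, by simpa [RingHom.ker] using h⟩, fun q hq hqp => ?_⟩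
    exact (congrArg PrimeSpectrum.asIdeal (hp ⟨q, hq.1⟩ hqp)).ge
  obtain ⟨q, hq, -, hqp⟩ := Ideal.exists_comap_eq_of_mem_minimalPrimes φ p.asIdeal hm
  exact ⟨⟨q, hq⟩, PrimeSpectrum.ext hqp⟩

theorem mem_range_of_mem_closure {X S : Scheme.{u}} (f : X ⟶ S) [QuasiCompact f]
    (η : S) (hη : closure {η} ∈ irreducibleComponents (↑S : Type u))
    (h : η ∈ closure (Set.range f)) : η ∈ Set.range f := by
  obtain ⟨_, ⟨U, hU, rfl⟩, hηU, -⟩ :=
    S.isBasis_affineOpens.exists_subset_of_mem_open (Set.mem_univ η) isOpen_univ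
  obtain ⟨s, hs, hcov⟩ := (isCompact_and_isOpen_iff_finite_and_eq_biUnion_affineOpens).mp
    ⟨f.isCompact_preimage hU.isCompact, (f ⁻¹ᵁ U).isOpen⟩
  have h1 : η ∈ closure ((U : Set S) ∩ Set.range f) :=
    U.isOpen.inter_closure ⟨hηU, h⟩
  rw [← Set.image_preimage_eq_inter_range] at h1
  have h2 : f.base '' (f.base ⁻¹' (U : Set S)) = ⋃ V ∈ s, f.base '' (V.1 : Set X) := by
    rw [← Set.image_iUnion₂]; exact congrArg _ hcov
  rw [h2, hs.closure_biUnion] at h1
  obtain ⟨V, hV, hηV⟩ := Set.mem_iUnion₂.mp h1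
  have hVU : (V.1 : Set X) ⊆ f.base ⁻¹' (U : Set S) :=
    fun x hx => hcov.ge (Set.mem_biUnion hV hx)
  have hr : Set.range (V.2.fromSpec ≫ f) = f.base '' (V.1 : Set X) := by
    rw [Scheme.Hom.comp_base, TopCat.coe_comp, Set.range_comp, IsAffineOpen.range_fromSpec]
  have hle : Set.range (V.2.fromSpec ≫ f) ⊆ Set.range hU.fromSpec := by
    rw [hr, IsAffineOpen.range_fromSpec]; exact Set.image_subset_iff.mpr hVU
  obtain ⟨φ, hφ⟩ := Spec.map_surjective (IsOpenImmersion.lift hU.fromSpec (V.2.fromSpec ≫ f) hle)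
  have hfac : Spec.map φ ≫ hU.fromSpec = V.2.fromSpec ≫ f := by
    rw [hφ, IsOpenImmersion.lift_fac]
  obtain ⟨p, rfl⟩ : η ∈ Set.range hU.fromSpec := by rwa [IsAffineOpen.range_fromSpec]
  have h3 : p ∈ closure (Set.range (Spec.map φ)) := by
    rw [hU.fromSpec.isEmbedding.closure_eq_preimage_closure_image, ← Set.range_comp]
    show hU.fromSpec p ∈ closure (Set.range (Spec.map φ ≫ hU.fromSpec))
    rw [hfac, hr]; exact hηV
  obtain ⟨q, hq⟩ := mem_range_comap_of_isMin φ.hom p (fun q hq => hU.fromSpec.isEmbedding.injective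
    (eq_of_specializes_maximal hη (((PrimeSpectrum.le_iff_specializes q p).mp hq).map
      hU.fromSpec.continuous))) h3
  refine ⟨V.2.fromSpec q, ?_⟩
  rw [← Scheme.Hom.comp_apply, ← hfac]
  exact congrArg hU.fromSpec hq

end Groth.Agent.DomLib
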